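import Groth.Agent.AdicFibres.LocalGlobal
import Groth.Agent.Hensel.PairNoeth
import Groth.Agent.AdicBasics.Dimension
import Groth.Agent.FlatDepth.CompDescent
import Mathlib

/-!
The local rings of an adic completion and the completions of the local rings of the base.
-/

set_option autoImplicit false
set_option linter.style.haveILetI false

namespace Groth.Agent.AdicFibres

universe u

open IsLocalRing TensorProduct

variable (A : Type u) [CommRing A] [IsNoetherianRing A] (I : Ideal A)

theorem exists_sub_mem_map (x : AdicCompletion I A) :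
    ∃ a : A, x - algebraMap A (AdicCompletion I A) a ∈ I.map (algebraMap A (AdicCompletion I A)) := by
  obtain ⟨a, ha⟩ := Ideal.Quotient.mk_surjective (AdicCompletion.evalOneₐ I x)
  refine ⟨a, ?_⟩
  rw [← AdicCompletion.ker_evalOneₐ_eq_map I (IsNoetherian.noetherian I), RingHom.mem_ker]
  show AdicCompletion.evalOneₐ I (x - algebraMap A (AdicCompletion I A) a) = 0
  rw [map_sub, ← ha]
  exact sub_self _

/-- A maximal ideal of the completion comes from a maximal ideal of `A` containing `I`. -/
theorem maximal_setup (n : Ideal (AdicCompletion I A)) [n.IsMaximal] :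
    I ≤ n.comap (algebraMap A (AdicCompletion I A)) ∧ (n.comap (algebraMap A (AdicCompletion I A))).IsMaximal ∧
      n = (n.comap (algebraMap A (AdicCompletion I A))).map (algebraMap A (AdicCompletion I A)) := by
  haveI : IsAdicComplete I (AdicCompletion I A) := AdicCompletion.isAdicComplete (IsNoetherian.noetherian I)
  haveI : IsAdicComplete (I.map (algebraMap A (AdicCompletion I A))) (AdicCompletion I A) :=
    (IsAdicComplete.map_algebraMap_iff _ _).2 inferInstance
  have hIn : I.map (algebraMap A (AdicCompletion I A)) ≤ n :=
    (IsAdicComplete.le_jacobson_bot _).trans (sInf_le ⟨bot_le, inferInstance⟩)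
  have hI : I ≤ n.comap (algebraMap A (AdicCompletion I A)) := Ideal.map_le_iff_le_comap.1 hIn
  have hsurj : Function.Surjective ((Ideal.Quotient.mk n).comp (algebraMap A (AdicCompletion I A))) := fun y => by
    obtain ⟨x, rfl⟩ := Ideal.Quotient.mk_surjective y
    obtain ⟨a, ha⟩ := exists_sub_mem_map A I x
    exact ⟨a, (Ideal.Quotient.eq.2 (hIn ha)).symm⟩
  refine ⟨hI, ?_, le_antisymm (fun x hx => ?_) Ideal.map_comap_le⟩
  · haveI : (⊥ : Ideal (AdicCompletion I A ⧸ n)).IsMaximal :=
      letI := Ideal.Quotient.field n
      Ideal.bot_isMaximal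
    have := Ideal.comap_isMaximal_of_surjective _ hsurj (K := (⊥ : Ideal (AdicCompletion I A ⧸ n)))
    rwa [← RingHom.ker_eq_comap_bot, ← RingHom.comap_ker, Ideal.mk_ker] at this
  · obtain ⟨a, ha⟩ := exists_sub_mem_map A I x
    have h1 : algebraMap A (AdicCompletion I A) a ∈ n := by
      have := n.sub_mem hx (hIn ha)
      rwa [sub_sub_cancel] at this
    rw [← sub_add_cancel x (algebraMap A (AdicCompletion I A) a)]
    exact Ideal.add_mem _ (Ideal.map_mono hI ha) (Ideal.mem_map_of_mem _ h1)

/-- The local ring of the completion at a maximal ideal maps faithfully flatly to the completion of the local ring. -/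
theorem exists_completion_map (n : Ideal (AdicCompletion I A)) [n.IsMaximal] (m : Ideal A) [m.IsPrime]
    (hm : m = n.comap (algebraMap A (AdicCompletion I A))) :
    ∃ (_ : Algebra (Localization.AtPrime n) (EGA4.Cpl (Localization.AtPrime m))),
      IsScalarTower A (Localization.AtPrime n) (EGA4.Cpl (Localization.AtPrime m)) ∧
        IsNoetherianRing (Localization.AtPrime n) ∧ Module.Flat A (Localization.AtPrime n) ∧
        Module.FaithfullyFlat (Localization.AtPrime n) (EGA4.Cpl (Localization.AtPrime m)) := by
  haveI : IsNoetherianRing (AdicCompletion I A) :=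
    Groth.Agent.ResExt.isNoetherianRing_adicCompletion I (IsNoetherian.noetherian I)
  obtain ⟨hI, -, hn⟩ := maximal_setup A I n
  rw [← hm] at hI hn
  haveI : n.LiesOver m := ⟨hm⟩
  letI := Localization.AtPrime.algebraOfLiesOver m n
  haveI : IsScalarTower A (Localization.AtPrime m) (Localization.AtPrime n) := IsScalarTower.of_algebraMap_eq fun a => by
    rw [RingHom.algebraMap_toAlgebra, Localization.localRingHom_to_map, ← IsScalarTower.algebraMap_apply]
  let J := maximalIdeal (Localization.AtPrime m)
  let S := Localization.AtPrime n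
  have hJ : J.map (algebraMap (Localization.AtPrime m) S) = maximalIdeal S := by
    show (maximalIdeal (Localization.AtPrime m)).map (algebraMap (Localization.AtPrime m) S) = _
    rw [← Localization.AtPrime.map_eq_maximalIdeal, Ideal.map_map, ← IsScalarTower.algebraMap_eq,
      IsScalarTower.algebraMap_eq A (AdicCompletion I A) S, ← Ideal.map_map, ← hn, Localization.AtPrime.map_eq_maximalIdeal]
  -- the truncations
  let g : ∀ k, AdicCompletion I A →+* Localization.AtPrime m ⧸ J ^ k := fun k =>
    (Ideal.Quotient.lift (I ^ k) ((Ideal.Quotient.mk (J ^ k)).comp (algebraMap A (Localization.AtPrime m))) fun a ha => by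
      rw [RingHom.comp_apply, Ideal.Quotient.eq_zero_iff_mem]
      have h1 := Ideal.mem_map_of_mem (algebraMap A (Localization.AtPrime m)) ha
      rw [Ideal.map_pow] at h1
      refine Ideal.pow_right_mono ?_ k h1
      show _ ≤ maximalIdeal (Localization.AtPrime m)
      rw [← Localization.AtPrime.map_eq_maximalIdeal]
      exact Ideal.map_mono hI).comp (AdicCompletion.evalₐ I k).toRingHom
  have hga : ∀ k a, g k (algebraMap A _ a) = Ideal.Quotient.mk (J ^ k) (algebraMap A _ a) := fun k a => by
    simp only [g, RingHom.comp_apply, AlgHom.toRingHom_eq_coe, RingHom.coe_coe, AlgHom.commutes]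
    rfl
  have hunit : ∀ k (x : n.primeCompl), IsUnit (g k x) := fun k x => by
    obtain ⟨a, ha⟩ := exists_sub_mem_map A I (x : AdicCompletion I A)
    have hIn : I.map (algebraMap A (AdicCompletion I A)) ≤ n := by rw [hn]; exact Ideal.map_mono hI
    have ham : a ∉ m := fun h => x.2 (by
      have h1 := n.add_mem (hIn ha) (show algebraMap A (AdicCompletion I A) a ∈ n from Ideal.mem_comap.1 (hm ▸ h))
      rwa [sub_add_cancel] at h1)
    have h2 : g k ((x : AdicCompletion I A) - algebraMap A _ a) ∈ J.map (Ideal.Quotient.mk (J ^ k)) := by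
      have h3 := Ideal.mem_map_of_mem (g k) ha
      rw [Ideal.map_map, show (g k).comp (algebraMap A (AdicCompletion I A)) =
        (Ideal.Quotient.mk (J ^ k)).comp (algebraMap A (Localization.AtPrime m)) from RingHom.ext (hga k),
        ← Ideal.map_map] at h3
      refine Ideal.map_mono ?_ h3
      show _ ≤ maximalIdeal (Localization.AtPrime m)
      rw [← Localization.AtPrime.map_eq_maximalIdeal]
      exact Ideal.map_mono hI
    have h4 : IsNilpotent (g k ((x : AdicCompletion I A) - algebraMap A _ a)) := by
      refine ⟨k, ?_⟩
      have h5 := Ideal.pow_mem_pow h2 k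
      rwa [← Ideal.map_pow, Ideal.map_quotient_self, Submodule.mem_bot] at h5
    rw [show g k x = g k (algebraMap A _ a) + g k ((x : AdicCompletion I A) - algebraMap A _ a) by
      rw [← map_add, add_sub_cancel]]
    refine h4.isUnit_add_left_of_commute ?_ (Commute.all _ _)
    rw [hga]
    exact (IsLocalization.map_units (Localization.AtPrime m) (⟨a, ham⟩ : m.primeCompl)).map _
  have hmem : Hensel.PowBij J S := by
    refine ⟨fun k a ha => ?_, Hensel.exists_sub_mem_pow J S fun s => ?_⟩
    · let G : S →+* Localization.AtPrime m ⧸ J ^ k := IsLocalization.lift (hunit k)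
      have hG : G.comp (algebraMap (Localization.AtPrime m) S) = Ideal.Quotient.mk (J ^ k) := by
        refine IsLocalization.ringHom_ext m.primeCompl (RingHom.ext fun b => ?_)
        show G (algebraMap (Localization.AtPrime m) S (algebraMap A _ b)) = _
        rw [← IsScalarTower.algebraMap_apply, IsScalarTower.algebraMap_apply A (AdicCompletion I A) S,
          IsLocalization.lift_eq, hga]
        rfl
      have h1 := Ideal.mem_map_of_mem G ha
      rw [← Ideal.map_pow, Ideal.map_map, hG, Ideal.map_quotient_self, Submodule.mem_bot] at h1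
      rw [← Ideal.Quotient.eq_zero_iff_mem, ← hG]
      exact h1
    · obtain ⟨x, ⟨u, hu⟩, rfl⟩ := IsLocalization.exists_mk'_eq n.primeCompl s
      obtain ⟨a, ha⟩ := exists_sub_mem_map A I x
      obtain ⟨b, hb⟩ := exists_sub_mem_map A I u
      have hIn : I.map (algebraMap A (AdicCompletion I A)) ≤ n := by rw [hn]; exact Ideal.map_mono hI
      have hbm : b ∉ m := fun h => hu (by
        have h1 := n.add_mem (hIn hb) (show algebraMap A (AdicCompletion I A) b ∈ n from Ideal.mem_comap.1 (hm ▸ h))
        rwa [sub_add_cancel] at h1)
      refine ⟨IsLocalization.mk' (Localization.AtPrime m) a (⟨b, hbm⟩ : m.primeCompl), ?_⟩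
      rw [hJ]
      let π := residue S
      rw [← IsLocalRing.residue_eq_zero_iff, map_sub, sub_eq_zero]
      have hres : ∀ (y : AdicCompletion I A) (c : A), y - algebraMap A _ c ∈ I.map (algebraMap A (AdicCompletion I A)) →
          residue S (algebraMap _ S y) = residue S (algebraMap A S c) := fun y c hyc => by
        rw [← sub_eq_zero, ← map_sub, IsLocalRing.residue_eq_zero_iff, IsScalarTower.algebraMap_apply A (AdicCompletion I A) S,
          ← map_sub, ← Localization.AtPrime.map_eq_maximalIdeal]
        exact Ideal.mem_map_of_mem _ (hIn hyc)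
      have hbu : IsUnit (residue S (algebraMap A S b)) := by
        rw [IsScalarTower.algebraMap_apply A (Localization.AtPrime m) S]
        exact ((IsLocalization.map_units (Localization.AtPrime m) (⟨b, hbm⟩ : m.primeCompl)).map _).map _
      refine hbu.mul_left_injective ?_
      show residue S _ * residue S (algebraMap A S b) = residue S _ * residue S (algebraMap A S b)
      conv_lhs => rw [← hres u b hb, ← map_mul, IsLocalization.mk'_spec_mk, hres x a ha]
      rw [IsScalarTower.algebraMap_apply A (Localization.AtPrime m) S b, ← map_mul, ← map_mul,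
        IsLocalization.mk'_spec_mk, ← IsScalarTower.algebraMap_apply]
  letI := hmem.toCompletion.toAlgebra
  haveI hSn : IsNoetherianRing S := IsLocalization.isNoetherianRing n.primeCompl _ inferInstance
  haveI : Module.Flat S (EGA4.Cpl (Localization.AtPrime m)) := hmem.flat
  have hcomm : ∀ a : Localization.AtPrime m, hmem.toCompletion (algebraMap _ S a) =
      algebraMap (Localization.AtPrime m) (EGA4.Cpl (Localization.AtPrime m)) a := fun a =>
    AdicCompletion.ext_evalₐ fun k => by
      rw [hmem.evalₐ_toCompletion (a := a) (by simp), AlgHom.commutes]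
      rfl
  haveI : IsLocalRing (EGA4.Cpl (Localization.AtPrime m)) := inferInstance
  haveI : IsLocalHom (algebraMap S (EGA4.Cpl (Localization.AtPrime m))) := by
    refine ⟨fun s hs => ?_⟩
    by_contra hns
    obtain ⟨a, ha⟩ := hmem.exists_sub 1 s
    have he : AdicCompletion.evalₐ J 1 (hmem.toCompletion s) = Ideal.Quotient.mk _ a := hmem.evalₐ_toCompletion ha
    have hau : IsUnit (Ideal.Quotient.mk (J ^ 1) a) := he ▸ hs.map (AdicCompletion.evalₐ J 1)
    have : a ∈ J := by
      rw [pow_one, hJ] at ha
      have h1 : algebraMap _ S a ∈ maximalIdeal S := by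
        have := (maximalIdeal S).sub_mem hns ha
        rwa [sub_sub_cancel] at this
      by_contra h
      exact h1 ((IsLocalRing.notMem_maximalIdeal.1 h).map _)
    rw [(Ideal.Quotient.eq_zero_iff_mem).2 (by rwa [pow_one])] at hau
    haveI : Nontrivial (Localization.AtPrime m ⧸ J ^ 1) :=
      Ideal.Quotient.nontrivial_iff.2 (by rw [pow_one]; exact (maximalIdeal.isMaximal _).ne_top)
    exact not_isUnit_zero hau
  refine ⟨inferInstance, IsScalarTower.of_algebraMap_eq fun a => ?_, hSn, ?_, Module.FaithfullyFlat.of_flat_of_isLocalHom⟩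
  · rw [IsScalarTower.algebraMap_apply A (Localization.AtPrime m) (EGA4.Cpl _), ← hcomm,
      ← IsScalarTower.algebraMap_apply A (Localization.AtPrime m) S]
    rfl
  · haveI : Module.Flat A (AdicCompletion I A) := AdicCompletion.flat_of_isNoetherian I
    haveI : Module.Flat (AdicCompletion I A) S := IsLocalization.flat _ n.primeCompl
    exact Module.Flat.trans A (AdicCompletion I A) S

omit [IsNoetherianRing A] in
/-- Fibres over `A` of an algebra over a local ring of `A`. -/
theorem fibre_of_localization (m : Ideal A) [m.IsPrime] (C : Type u) [CommRing C] [Algebra (Localization.AtPrime m) C]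
    [Algebra A C] [IsScalarTower A (Localization.AtPrime m) C] (p : Ideal A) [p.IsPrime] (K : Type u) [Field K]
    [Algebra p.ResidueField K] (hK : Module.Finite p.ResidueField K) :
    Subsingleton (K ⊗[p.ResidueField] p.Fiber C) ∨ ∃ (q : Ideal (Localization.AtPrime m)) (_ : q.IsPrime)
      (_ : Algebra q.ResidueField K), Module.Finite q.ResidueField K ∧
      Nonempty ((K ⊗[q.ResidueField] q.Fiber C) ≃+* (K ⊗[p.ResidueField] p.Fiber C)) := by
  obtain ⟨hs, _⟩ := GeomProp.isPushout_self (R := A) (R' := Localization.AtPrime m)
    (Λ' := C) m.primeCompl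
  by_cases hpm : p ≤ m
  · have hd : Disjoint (m.primeCompl : Set A) (p : Set A) := Set.disjoint_left.2 fun a ha hap => ha (hpm hap)
    let q := p.map (algebraMap A (Localization.AtPrime m))
    haveI : q.IsPrime := IsLocalization.isPrime_of_isPrime_disjoint m.primeCompl _ p inferInstance hd
    have hq : q.comap (algebraMap A (Localization.AtPrime m)) = p :=
      IsLocalization.comap_map_of_isPrime_disjoint m.primeCompl _ inferInstance hd
    clear_value q
    subst hq
    letI : Algebra A K := ((algebraMap (q.comap (algebraMap A (Localization.AtPrime m))).ResidueField K).comp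
      (algebraMap A (q.comap (algebraMap A (Localization.AtPrime m))).ResidueField)).toAlgebra
    haveI : IsScalarTower A (q.comap (algebraMap A (Localization.AtPrime m))).ResidueField K :=
      IsScalarTower.of_algebraMap_eq fun _ => rfl
    let φ := Ideal.ResidueField.map (q.comap (algebraMap A (Localization.AtPrime m))) q (algebraMap A _) rfl
    have hφ : Function.Bijective φ := hs.residueFieldMap_bijective _ q rfl
    let ψ : q.ResidueField →+* K := (algebraMap _ K).comp (RingEquiv.ofBijective φ hφ).symm.toRingHom
    letI : Algebra q.ResidueField K := ψ.toAlgebra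
    letI : Algebra (q.comap (algebraMap A (Localization.AtPrime m))).ResidueField q.ResidueField := φ.toAlgebra
    haveI : IsScalarTower (q.comap (algebraMap A (Localization.AtPrime m))).ResidueField q.ResidueField K :=
      IsScalarTower.of_algebraMap_eq fun c => by
        show algebraMap _ K c = algebraMap _ K ((RingEquiv.ofBijective φ hφ).symm (φ c))
        rw [show (RingEquiv.ofBijective φ hφ).symm (φ c) = c from (RingEquiv.ofBijective φ hφ).symm_apply_apply c]
    haveI : Module.Finite q.ResidueField K :=
      Module.Finite.of_restrictScalars_finite (q.comap (algebraMap A (Localization.AtPrime m))).ResidueField q.ResidueField K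
    let R' := Localization.AtPrime m
    letI : Algebra R' K := ((algebraMap q.ResidueField K).comp (algebraMap R' q.ResidueField)).toAlgebra
    haveI : IsScalarTower R' q.ResidueField K := IsScalarTower.of_algebraMap_eq fun _ => rfl
    haveI : IsScalarTower A R' K := IsScalarTower.of_algebraMap_eq fun c => by
      show algebraMap A K c = algebraMap q.ResidueField K (algebraMap R' q.ResidueField (algebraMap A R' c))
      rw [show algebraMap R' q.ResidueField (algebraMap A R' c) = φ (algebraMap A _ c) from
        (Ideal.ResidueField.map_algebraMap _ _ _ _ _).symm,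
        show φ (algebraMap A _ c) = algebraMap _ q.ResidueField (algebraMap A _ c) from rfl,
        ← IsScalarTower.algebraMap_apply, ← IsScalarTower.algebraMap_apply]
    let e' : (K ⊗[q.ResidueField] q.Fiber C) ≃+* (C ⊗[A] K) :=
      ((Algebra.TensorProduct.cancelBaseChange R' q.ResidueField K K C).toRingEquiv.trans
        ((Algebra.TensorProduct.congr (AlgEquiv.refl (R := R') (A₁ := K))
          (Algebra.IsPushout.equiv A R' C C)).symm.toRingEquiv.trans
        (Algebra.TensorProduct.cancelBaseChange A R' K K C).toRingEquiv)).trans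
      (Algebra.TensorProduct.comm A K C).toRingEquiv
    obtain ⟨e⟩ := GeomProp.exists_fibre_equiv_tensor (q.comap (algebraMap A (Localization.AtPrime m))) C K
    exact Or.inr ⟨q, inferInstance, inferInstance, inferInstance, ⟨e'.trans e.symm⟩⟩
  · refine Or.inl (subsingleton_of_zero_eq_one ?_)
    obtain ⟨a, hap, ham⟩ := Set.not_subset.1 hpm
    have h1 : IsUnit (algebraMap A C a) := by
      rw [IsScalarTower.algebraMap_apply A (Localization.AtPrime m)]
      exact (IsLocalization.map_units (Localization.AtPrime m) (⟨a, ham⟩ : m.primeCompl)).map _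
    have h2 : (1 : K) ⊗ₜ[p.ResidueField] ((1 : p.ResidueField) ⊗ₜ[A] algebraMap A C a) = 0 := by
      rw [show algebraMap A C a = a • 1 from (Algebra.algebraMap_eq_smul_one a),
        TensorProduct.tmul_smul, TensorProduct.smul_tmul', Algebra.smul_def,
        show algebraMap A p.ResidueField a = 0 from Ideal.algebraMap_residueField_eq_zero.2 hap]
      simp
    have h3 := (h1.map (Algebra.TensorProduct.includeRight : C →ₐ[A] p.Fiber C)).map
      (Algebra.TensorProduct.includeRight : p.Fiber C →ₐ[p.ResidueField] K ⊗[p.ResidueField] p.Fiber C)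
    exact (isUnit_zero_iff.1 (h2 ▸ h3))

/-- Fibres over `A` of the completion of a local ring, in terms of the formal fibres. -/
theorem normal_fibres_cpl (m : Ideal A) [m.IsPrime] (h : EGA4.HasGeomNormalFormalFibres (Localization.AtPrime m))
    (p : Ideal A) [p.IsPrime] :
    EGA4.IsGeomNormal p.ResidueField (p.Fiber (EGA4.Cpl (Localization.AtPrime m))) := by
  intro K _ _ hK
  rcases fibre_of_localization A m (EGA4.Cpl (Localization.AtPrime m)) p K hK with hsub | ⟨q, _, _, hfin, ⟨e⟩⟩
  · intro P hP
    exact absurd (Subsingleton.elim (α := Ideal _) P ⊤) hP.ne_top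
  · exact FlatDepth.isNormalRing_of_equiv e (h q K hfin)

omit [IsNoetherianRing A] in
theorem reduced_fibres_cpl (m : Ideal A) [m.IsPrime] (h : EGA4.HasGeomReducedFormalFibres (Localization.AtPrime m))
    (p : Ideal A) [p.IsPrime] :
    Algebra.IsGeometricallyReduced p.ResidueField (p.Fiber (EGA4.Cpl (Localization.AtPrime m))) := by
  refine FlatDepth.geomReduced_of_finite fun K _ _ hK => ?_
  rcases fibre_of_localization A m (EGA4.Cpl (Localization.AtPrime m)) p K hK with hsub | ⟨q, _, _, _, ⟨e⟩⟩
  · exact ⟨fun x _ => Subsingleton.elim _ _⟩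
  · haveI := h q
    haveI : IsReduced (K ⊗[q.ResidueField] q.Fiber (EGA4.Cpl (Localization.AtPrime m))) :=
      GeomRedPull.isReduced_field_tensor (k := q.ResidueField) (A := q.Fiber (EGA4.Cpl (Localization.AtPrime m))) K
    exact isReduced_of_injective e.symm e.symm.injective

theorem isNormalHom_adicCompletion
    (hA : ∀ (m : Ideal A) [m.IsMaximal], EGA4.HasGeomNormalFormalFibres (Localization.AtPrime m)) :
    EGA4.IsNormalHom A (AdicCompletion I A) := by
  refine isNormalHom_of_maximal fun n _ => ?_
  obtain ⟨-, hm, -⟩ := maximal_setup A I n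
  haveI := hm
  obtain ⟨_, _, _, hflat, _⟩ := exists_completion_map A I n (n.comap (algebraMap A (AdicCompletion I A))) rfl
  haveI : IsNoetherianRing (EGA4.Cpl (Localization.AtPrime (n.comap (algebraMap A (AdicCompletion I A))))) :=
    inferInstance
  exact ⟨hflat, fun p _ => FlatDepth.geomNormal_descent (C := EGA4.Cpl (Localization.AtPrime (n.comap (algebraMap A (AdicCompletion I A))))) p
    (normal_fibres_cpl A _ (hA _) p)⟩

theorem geomReduced_adicCompletion
    (hA : ∀ (m : Ideal A) [m.IsMaximal], EGA4.HasGeomReducedFormalFibres (Localization.AtPrime m))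
    (p : Ideal A) [p.IsPrime] : Algebra.IsGeometricallyReduced p.ResidueField (p.Fiber (AdicCompletion I A)) := by
  refine geomReduced_of_maximal p fun n _ => ?_
  obtain ⟨-, hm, -⟩ := maximal_setup A I n
  haveI := hm
  obtain ⟨_, _, _, -, _⟩ := exists_completion_map A I n (n.comap (algebraMap A (AdicCompletion I A))) rfl
  exact FlatDepth.geomReduced_descent (C := EGA4.Cpl (Localization.AtPrime (n.comap (algebraMap A (AdicCompletion I A))))) p
    (reduced_fibres_cpl A _ (hA _) p)

end Groth.Agent.AdicFibres
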