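import Groth.Agent.GeomProp.RegLocal
import Groth.Agent.FlatDepth.RegHom
import Mathlib

/-!
Fibres of a ring map are normal / reduced when this holds at all maximal ideals of the source of the fibres.
-/

set_option autoImplicit false
set_option linter.style.haveILetI false

namespace Groth.Agent.AdicFibres

universe u

open TensorProduct

variable {R Λ : Type u} [CommRing R] [CommRing Λ] [Algebra R Λ]

/-- A property of all local rings of `Λ ⊗ K` follows from that of `Λ_n ⊗ K` for maximal `n`. -/
theorem forall_atPrime_tensor (K : Type u) [CommRing K] [Algebra R K]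
    (Good : ∀ (T : Type u) [CommRing T], Prop)
    (hequiv : ∀ (T T' : Type u) [CommRing T] [CommRing T'], (T ≃+* T') → Good T → Good T')
    (h : ∀ (n : Ideal Λ) [n.IsMaximal] (Q : Ideal (Localization.AtPrime n ⊗[R] K)) [Q.IsPrime],
      Good (Localization.AtPrime Q))
    (P : Ideal (Λ ⊗[R] K)) [P.IsPrime] : Good (Localization.AtPrime P) := by
  obtain ⟨n, hn, hle⟩ := Ideal.exists_le_maximal (P.comap (algebraMap Λ (Λ ⊗[R] K))) Ideal.IsPrime.ne_top'
  haveI := hn
  let Λ' := Localization.AtPrime n
  obtain ⟨_, _, hloc⟩ := GeomProp.tensor_localization (R := R) (Λ := Λ) (Λ' := Λ') n.primeCompl K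
  let M := Algebra.algebraMapSubmonoid (Λ ⊗[R] K) n.primeCompl
  have hdisj' : Disjoint (M : Set (Λ ⊗[R] K)) P := by
    rw [Set.disjoint_left]
    rintro _ ⟨b, hb, rfl⟩ hbq
    exact hb (hle hbq)
  haveI := IsLocalization.isPrime_of_isPrime_disjoint M (Λ' ⊗[R] K) P inferInstance hdisj'
  let Q := P.map (algebraMap (Λ ⊗[R] K) (Λ' ⊗[R] K))
  have h3 : Q.comap (algebraMap (Λ ⊗[R] K) (Λ' ⊗[R] K)) = P :=
    IsLocalization.under_map_of_isPrime_disjoint M _ inferInstance hdisj'
  have hloc2 : IsLocalization (Q.comap (algebraMap (Λ ⊗[R] K) (Λ' ⊗[R] K))).primeCompl (Localization.AtPrime Q) :=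
    IsLocalization.isLocalization_isLocalization_atPrime_isLocalization M (Localization.AtPrime Q) Q
  have key : ∀ (P2 : Ideal (Λ ⊗[R] K)) (hp2 : P2.IsPrime), P2 = P →
      IsLocalization (@Ideal.primeCompl _ _ P2 hp2) (Localization.AtPrime Q) →
      IsLocalization P.primeCompl (Localization.AtPrime Q) := by
    rintro P2 hp2 rfl h
    exact h
  haveI := key _ inferInstance h3 hloc2
  exact hequiv _ _ (IsLocalization.algEquiv P.primeCompl (Localization.AtPrime Q) (Localization.AtPrime P)).toRingEquiv
    (h n Q)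

theorem flat_of_maximal (h : ∀ (n : Ideal Λ) [n.IsMaximal], Module.Flat R (Localization.AtPrime n)) :
    Module.Flat R Λ :=
  Module.flat_of_isLocalized_maximal (R := R) (S := Λ) (M := Λ) (fun n => Localization.AtPrime n)
    (fun n _ => Algebra.linearMap Λ (Localization.AtPrime n)) h

theorem isNormalHom_of_maximal (h : ∀ (n : Ideal Λ) [n.IsMaximal], EGA4.IsNormalHom R (Localization.AtPrime n)) :
    EGA4.IsNormalHom R Λ := by
  refine ⟨flat_of_maximal fun n _ => (h n).1, fun p _ K _ _ hK => ?_⟩
  letI : Algebra R K := ((algebraMap p.ResidueField K).comp (algebraMap R p.ResidueField)).toAlgebra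
  haveI : IsScalarTower R p.ResidueField K := IsScalarTower.of_algebraMap_eq fun _ => rfl
  obtain ⟨e⟩ := GeomProp.exists_fibre_equiv_tensor p Λ K
  refine FlatDepth.isNormalRing_of_equiv e.symm fun P _ => ?_
  refine forall_atPrime_tensor K (fun T _ => IsDomain T ∧ IsIntegrallyClosed T) (fun T T' _ _ e h => ?_)
    (fun n _ Q _ => ?_) P
  · obtain ⟨_, _⟩ := h
    exact ⟨e.symm.toMulEquiv.isDomain T, IsIntegrallyClosed.of_equiv e⟩
  · obtain ⟨e'⟩ := GeomProp.exists_fibre_equiv_tensor p (Localization.AtPrime n) K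
    exact FlatDepth.isNormalRing_of_equiv e' ((h n).2 p K hK) Q

theorem geomReduced_of_maximal (p : Ideal R) [p.IsPrime]
    (h : ∀ (n : Ideal Λ) [n.IsMaximal], Algebra.IsGeometricallyReduced p.ResidueField (p.Fiber (Localization.AtPrime n))) :
    Algebra.IsGeometricallyReduced p.ResidueField (p.Fiber Λ) := by
  refine FlatDepth.geomReduced_of_finite fun K _ _ _ => ?_
  letI : Algebra R K := ((algebraMap p.ResidueField K).comp (algebraMap R p.ResidueField)).toAlgebra
  haveI : IsScalarTower R p.ResidueField K := IsScalarTower.of_algebraMap_eq fun _ => rfl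
  obtain ⟨e⟩ := GeomProp.exists_fibre_equiv_tensor p Λ K
  have hred : IsReduced (Λ ⊗[R] K) := by
    refine isReduced_ofLocalizationMaximal _ fun P hP => ?_
    haveI := hP.isPrime
    refine forall_atPrime_tensor K (fun T _ => IsReduced T) (fun T T' _ _ e h => ?_) (fun n _ Q _ => ?_) P
    · haveI := h; exact isReduced_of_injective e.symm e.symm.injective
    · obtain ⟨e'⟩ := GeomProp.exists_fibre_equiv_tensor p (Localization.AtPrime n) K
      haveI := h n
      haveI := GeomRedPull.isReduced_field_tensor (k := p.ResidueField) (A := p.Fiber (Localization.AtPrime n)) K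
      haveI : IsReduced (Localization.AtPrime n ⊗[R] K) := isReduced_of_injective e'.symm e'.symm.injective
      infer_instance
  exact isReduced_of_injective e e.injective

end Groth.Agent.AdicFibres
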