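import Groth.Agent.AdicFibres.Completion
import Groth.Agent.FlatDepth.AtPrime
import Groth.Agent.NormalBC.Normal
import Groth.Agent.S1182
import Groth.Agent.SchFinB.Schematic
import Mathlib

/-!
The localisation at `1 + J` and the `J`-adic completion.
-/

set_option autoImplicit false
set_option linter.style.haveILetI false

namespace Groth.Agent.AdicFibres

universe u

variable (A : Type u) [CommRing A] [IsNoetherianRing A] (J : Ideal A) (T : Submonoid A)
  (hT : T = MonoidHom.mker (Ideal.Quotient.mk J))

include hT in
theorem exists_onePlus_algebra : ∃ (_ : Algebra (Localization T) (AdicCompletion J A)),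
    IsScalarTower A (Localization T) (AdicCompletion J A) ∧
      Module.FaithfullyFlat (Localization T) (AdicCompletion J A) := by
  haveI : IsAdicComplete J (AdicCompletion J A) := AdicCompletion.isAdicComplete (IsNoetherian.noetherian J)
  haveI : IsAdicComplete (J.map (algebraMap A (AdicCompletion J A))) (AdicCompletion J A) :=
    (IsAdicComplete.map_algebraMap_iff _ _).2 inferInstance
  have hjac := IsAdicComplete.le_jacobson_bot (J.map (algebraMap A (AdicCompletion J A)))
  have hu : ∀ t : T, IsUnit (algebraMap A (AdicCompletion J A) t) := fun ⟨t, ht⟩ => by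
    rw [hT, MonoidHom.mem_mker] at ht
    have h1 : t - 1 ∈ J := Ideal.Quotient.eq.1 (ht.trans (map_one _).symm)
    have h2 := Ideal.mem_jacobson_bot.1 (hjac (Ideal.mem_map_of_mem (algebraMap A (AdicCompletion J A)) h1)) 1
    rwa [mul_one, map_sub, map_one, sub_add_cancel] at h2
  let f : Localization T →+* AdicCompletion J A := IsLocalization.lift hu
  letI := f.toAlgebra
  haveI htower : IsScalarTower A (Localization T) (AdicCompletion J A) :=
    IsScalarTower.of_algebraMap_eq fun a => (IsLocalization.lift_eq hu a).symm
  haveI : Module.Flat (Localization T) (AdicCompletion J A) :=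
    (Module.flat_iff_of_isLocalization (Localization T) T _).2 inferInstance
  refine ⟨inferInstance, htower, ⟨fun M hM htop => ?_⟩⟩
  let m := M.comap (algebraMap A (Localization T))
  have hMm : m.map (algebraMap A (Localization T)) = M := IsLocalization.map_comap T (Localization T) M
  have hJm : J ≤ m := fun j hj => by
    by_contra hjm
    have hjM : algebraMap A (Localization T) j ∉ M := hjm
    obtain ⟨y, hy⟩ := hM.exists_inv hjM
    obtain ⟨i, hi, hyi⟩ := hy
    obtain ⟨b, ⟨s, hs⟩, rfl⟩ := IsLocalization.exists_mk'_eq T y
    have h3 : algebraMap A (Localization T) (s - b * j) ∈ M := by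
      have : algebraMap A (Localization T) (s - b * j) = algebraMap A (Localization T) s * i := by
        rw [map_sub, map_mul, ← IsLocalization.mk'_spec' (Localization T) b ⟨s, hs⟩]
        linear_combination -(algebraMap A (Localization T) s) * hyi
      rw [this]; exact M.mul_mem_left _ hi
    refine hM.ne_top (Ideal.eq_top_of_isUnit_mem _ h3 ?_)
    refine IsLocalization.map_units (Localization T) (⟨s - b * j, ?_⟩ : T)
    rw [hT, MonoidHom.mem_mker] at hs ⊢
    rw [map_sub, hs, map_mul, (Ideal.Quotient.eq_zero_iff_mem).2 hj, mul_zero, sub_zero]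
  have hmne : m ≠ ⊤ := Ideal.IsPrime.ne_top inferInstance
  rw [Ideal.smul_top_eq_map] at htop
  have htop' : m.map (algebraMap A (AdicCompletion J A)) = ⊤ := by
    rw [IsScalarTower.algebraMap_eq A (Localization T), ← Ideal.map_map, hMm]
    exact Submodule.restrictScalars_injective (Localization T) _ _ (htop.trans (Submodule.restrictScalars_top (Localization T) _ _).symm)
  let g : AdicCompletion J A →+* A ⧸ J := (AdicCompletion.evalOneₐ J).toRingHom
  have hg := congrArg (Ideal.map g) htop'
  rw [Ideal.map_map, show g.comp (algebraMap A (AdicCompletion J A)) = Ideal.Quotient.mk J from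
    AdicCompletion.evalOneₐ_comp_algebraMap_eq_mk J, Ideal.map_top] at hg
  have := congrArg (Ideal.comap (Ideal.Quotient.mk J)) hg
  rw [Ideal.comap_map_of_surjective _ Ideal.Quotient.mk_surjective, ← RingHom.ker_eq_comap_bot, Ideal.mk_ker,
    Ideal.comap_top, sup_eq_left.2 hJm] at this
  exact hmne this

include hT in
theorem atPrime_of_completion (q : Ideal (AdicCompletion J A)) [q.IsPrime] :
    ∃ (P : Ideal (Localization T)) (_ : P.IsPrime),
      Nonempty (Localization.AtPrime P ≃+* Localization.AtPrime (q.comap (algebraMap A (AdicCompletion J A)))) := by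
  obtain ⟨_, _, -⟩ := exists_onePlus_algebra A J T hT
  let P := q.comap (algebraMap (Localization T) (AdicCompletion J A))
  have hP : P.comap (algebraMap A (Localization T)) = q.comap (algebraMap A (AdicCompletion J A)) := by
    rw [Ideal.comap_comap, ← IsScalarTower.algebraMap_eq]
  refine ⟨P, inferInstance, ?_⟩
  suffices h : ∀ (p : Ideal A) (_ : p.IsPrime), P.comap (algebraMap A (Localization T)) = p →
      Nonempty (Localization.AtPrime P ≃+* Localization.AtPrime p) from h _ inferInstance hP
  rintro p _ rfl
  exact ⟨(IsLocalization.localizationLocalizationAtPrimeIsoLocalization T P).symm.toRingEquiv⟩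

include hT in
theorem isNormalRing_iff (hf : EGA4.IsNormalHom A (AdicCompletion J A)) :
    EGA4.IsNormalRing (Localization T) ↔ EGA4.IsNormalRing (AdicCompletion J A) := by
  haveI : IsNoetherianRing (AdicCompletion J A) :=
    Groth.Agent.ResExt.isNoetherianRing_adicCompletion J (IsNoetherian.noetherian J)
  haveI := hf.1
  refine ⟨fun h q _ => ?_, fun h => ?_⟩
  · obtain ⟨P, _, ⟨e⟩⟩ := atPrime_of_completion A J T hT q
    obtain ⟨_, _⟩ := h P
    haveI : IsDomain (Localization.AtPrime (q.comap (algebraMap A (AdicCompletion J A)))) :=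
      e.symm.toMulEquiv.isDomain (Localization.AtPrime P)
    haveI : IsIntegrallyClosed (Localization.AtPrime (q.comap (algebraMap A (AdicCompletion J A)))) :=
      IsIntegrallyClosed.of_equiv e
    refine FlatDepth.normal_at_ascent (A := A) (fun Q _ => ?_) q
    obtain ⟨Q', _, ⟨e'⟩⟩ := FlatDepth.exists_fibre_equiv (A := A) Q
    obtain ⟨_, _⟩ := FlatDepth.isNormalRing_of_isGeomNormal (hf.2 (Q.comap (algebraMap A (AdicCompletion J A)))) Q'
    exact ⟨e'.symm.toMulEquiv.isDomain (Localization.AtPrime Q'), IsIntegrallyClosed.of_equiv (R := Localization.AtPrime Q') e'⟩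
  · obtain ⟨_, _, _⟩ := exists_onePlus_algebra A J T hT
    exact S1182.descend (Localization T) (AdicCompletion J A) h

include hT in
theorem isRegularRing_iff (hf : CAlg.IsRegularHom A (AdicCompletion J A)) :
    IsRegularRing (Localization T) ↔ IsRegularRing (AdicCompletion J A) := by
  haveI : IsNoetherianRing (AdicCompletion J A) :=
    Groth.Agent.ResExt.isNoetherianRing_adicCompletion J (IsNoetherian.noetherian J)
  haveI := hf.1
  refine ⟨fun h => ?_, fun h => ?_⟩
  · refine _root_.isRegularRing_iff.2 fun q _ => ?_
    obtain ⟨P, _, ⟨e⟩⟩ := atPrime_of_completion A J T hT q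
    haveI := h.isRegularLocalRing_localization P
    refine FlatDepth.isRegular_atPrime_ascent (A := A) q (IsRegularLocalRing.of_ringEquiv e) ?_
    obtain ⟨Q', _, ⟨e'⟩⟩ := FlatDepth.exists_fibre_equiv (A := A) q
    haveI := FlatDepth.isRegularRing_of_equiv _ _
      (Algebra.TensorProduct.lid _ ((q.comap (algebraMap A (AdicCompletion J A))).Fiber (AdicCompletion J A))).toRingEquiv
      ((hf.2 (q.comap (algebraMap A (AdicCompletion J A)))).2 _ inferInstance)
    haveI := IsRegularRing.isRegularLocalRing_localization Q'
    exact IsRegularLocalRing.of_ringEquiv (R := Localization.AtPrime Q') e'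
  · obtain ⟨_, _, _⟩ := exists_onePlus_algebra A J T hT
    haveI := h
    exact SerreReg.isRegularRing_of_faithfullyFlat (Localization T) (AdicCompletion J A)

include hT in
theorem domain_iff (hJ : J ≠ ⊤) (hf : EGA4.IsNormalHom A (AdicCompletion J A)) :
    (IsDomain (AdicCompletion J A) ∧ IsIntegrallyClosed (AdicCompletion J A)) ↔
      ((IsDomain (Localization T) ∧ IsIntegrallyClosed (Localization T)) ∧
        ConnectedSpace (PrimeSpectrum (A ⧸ J))) := by
  haveI : IsNoetherianRing (AdicCompletion J A) :=
    Groth.Agent.ResExt.isNoetherianRing_adicCompletion J (IsNoetherian.noetherian J)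
  haveI : Nontrivial (A ⧸ J) := Ideal.Quotient.nontrivial_iff.2 hJ
  haveI : Nontrivial (AdicCompletion J A) := (AdicCompletion.evalOneₐ J).toRingHom.domain_nontrivial
  haveI : IsAdicComplete J (AdicCompletion J A) := AdicCompletion.isAdicComplete (IsNoetherian.noetherian J)
  let JA := J.map (algebraMap A (AdicCompletion J A))
  haveI : IsAdicComplete JA (AdicCompletion J A) := (IsAdicComplete.map_algebraMap_iff _ _).2 inferInstance
  have hker : RingHom.ker (AdicCompletion.evalOneₐ J).toRingHom = JA :=
    AdicCompletion.ker_evalOneₐ_eq_map J (IsNoetherian.noetherian J)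
  constructor
  · rintro ⟨_, _⟩
    obtain ⟨_, _, _⟩ := exists_onePlus_algebra A J T hT
    refine ⟨FlatDepth.isIntegrallyClosed_descent (R := Localization T) (S := AdicCompletion J A),
      (SchFinB.connectedSpace_iff_idem _).2 ⟨inferInstance, fun e he => ?_⟩⟩
    obtain ⟨x, rfl⟩ := AdicCompletion.evalOneₐ_surjective J e
    haveI : HenselianRing (AdicCompletion J A) JA := inferInstance
    obtain ⟨e', he', hee'⟩ := HenselianRing.is_henselian (I := JA) (Polynomial.X ^ 2 - Polynomial.X : Polynomial (AdicCompletion J A))
      (Polynomial.monic_X_pow_sub (by simp)) x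
      (by
        rw [← hker, RingHom.mem_ker]
        simp only [Polynomial.eval_sub, Polynomial.eval_pow, Polynomial.eval_X, map_sub, map_pow]
        show (AdicCompletion.evalOneₐ J x) ^ 2 - AdicCompletion.evalOneₐ J x = 0
        rw [sq, he.eq, sub_self])
      (by
        refine IsUnit.of_mul_eq_one (Ideal.Quotient.mk JA (2 * x - 1)) ?_
        rw [← map_mul, ← map_one (Ideal.Quotient.mk JA), Ideal.Quotient.eq, ← hker, RingHom.mem_ker]
        simp only [Polynomial.derivative_sub, Polynomial.derivative_X_pow, Polynomial.derivative_X, Polynomial.eval_sub,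
          Polynomial.eval_mul, Polynomial.eval_C, Polynomial.eval_pow, Polynomial.eval_X, Polynomial.eval_one, map_sub,
          map_mul, map_one, map_pow]
        show ((AdicCompletion.evalOneₐ J).toRingHom (2 : AdicCompletion J A) * AdicCompletion.evalOneₐ J x ^ 1 - 1) *
            ((AdicCompletion.evalOneₐ J).toRingHom (2 : AdicCompletion J A) * AdicCompletion.evalOneₐ J x - 1) - 1 = 0
        rw [map_ofNat, pow_one]
        linear_combination (4 : A ⧸ J) * he.eq)
    have hx : AdicCompletion.evalOneₐ J e' = AdicCompletion.evalOneₐ J x := by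
      rw [← sub_eq_zero, ← map_sub]
      exact RingHom.mem_ker.1 (hker ▸ hee' : e' - x ∈ RingHom.ker (AdicCompletion.evalOneₐ J).toRingHom)
    have h0 : e' * (e' - 1) = 0 := by
      have := he'
      simp only [Polynomial.IsRoot.def, Polynomial.eval_sub, Polynomial.eval_pow, Polynomial.eval_X] at this
      linear_combination this
    rcases mul_eq_zero.1 h0 with h | h
    · left; rw [← hx, h, map_zero]
    · right; rw [← hx, sub_eq_zero.1 h, map_one]
  · rintro ⟨⟨_, _⟩, hc⟩
    have hn : EGA4.IsNormalRing (AdicCompletion J A) :=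
      (isNormalRing_iff A J T hT hf).1 (GeomProp.isNormalRing_of_domain (Localization T))
    haveI hd : IsDomain (AdicCompletion J A) := by
      refine NormalBC.isDomain_of_connected hn (minimalPrimes.finite_of_isNoetherianRing _) fun e he => ?_
      have hjac := IsAdicComplete.le_jacobson_bot JA
      have key : ∀ f : AdicCompletion J A, IsIdempotentElem f → AdicCompletion.evalOneₐ J f = 0 → f = 0 := fun f hf h0 => by
        have h2 := Ideal.mem_jacobson_bot.1 (hjac (hker ▸ RingHom.mem_ker.2 h0 : f ∈ JA)) (-1)
        exact h2.mul_left_eq_zero.1 (by rw [mul_neg, mul_one, mul_add, mul_neg, hf.eq, mul_one, neg_add_cancel])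
      rcases ((SchFinB.connectedSpace_iff_idem _).1 hc).2 _ (he.map (AdicCompletion.evalOneₐ J)) with h | h
      · exact Or.inl (key e he h)
      · exact Or.inr (sub_eq_zero.1 (key (1 - e) he.one_sub (by rw [map_sub, map_one, h, sub_self]))).symm
    refine ⟨hd, (isIntegrallyClosed_iff (FractionRing (AdicCompletion J A))).2 fun {x} hx => ?_⟩
    obtain ⟨y, hy⟩ := NormalBC.mem_range_of_isIntegral_localization (T' := FractionRing (AdicCompletion J A))
      (nonZeroDivisors _) le_rfl hn x hx
    exact ⟨y, hy⟩

end Groth.Agent.AdicFibres
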